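import Groth.Agent.Lib.TorBal.Basic
import Mathlib.Algebra.Homology.DerivedCategory.Ext.EnoughProjectives
import Mathlib.Algebra.Category.ModuleCat.Ext.HasExt

/-!
# `Ext²` and `Tor₁` from a square presentation with a partner

If `M` is presented by `A : R^a → R^a` and `B ∘ A = c`, then `Ext²(M, N) = 0` as soon as `c` is
regular on `N`, and `Tor₁(M, D) = 0` as soon as `c` is regular on `D`.
-/

set_option autoImplicit false
universe u

open CategoryTheory CategoryTheory.Abelian TensorProduct GrothLib.FlatFP

set_option linter.style.haveILetI false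

namespace GrothLib.PlanarExt

variable {R : Type u} [CommRing R]

theorem subsingleton_ext_succ {S : ShortComplex (ModuleCat.{u} R)} (hS : S.ShortExact) [Projective S.X₂]
    (Y : ModuleCat.{u} R) (n : ℕ) (h : Subsingleton (Ext S.X₁ Y n)) :
    Subsingleton (Ext S.X₃ Y (n + 1)) := by
  refine subsingleton_of_forall_eq 0 fun x => ?_
  obtain ⟨x₁, rfl⟩ := Ext.contravariant_sequence_exact₃ hS Y x (Ext.eq_zero_of_projective _)
    (Nat.add_comm 1 n)
  rw [Subsingleton.elim x₁ 0, Ext.comp_zero]

theorem isZero_tor_one_of_injective (M N : ModuleCat.{u} R)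
    (h : ∀ (W P : Type u) [AddCommGroup W] [Module R W] [AddCommGroup P] [Module R P]
      (ι : W →ₗ[R] P) (q : P →ₗ[R] (N : Type u)), Function.Injective ι → Function.Exact ι q →
      Function.Surjective q → Function.Injective (ι.lTensor (M : Type u))) :
    Limits.IsZero (((Tor (ModuleCat.{u} R) 1).obj M).obj N) := by
  rw [isZero_tor_iff]
  let P := projectiveResolution N
  rw [← HomologicalComplex.exactAt_iff_isZero_homology,
    HomologicalComplex.exactAt_iff' _ 2 1 0 (by simp) (by simp), ShortComplex.moduleCat_exact_iff]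
  let d₂ : P.complex.X 2 →ₗ[R] P.complex.X 1 := (P.complex.d 2 1).hom
  let d₁ : P.complex.X 1 →ₗ[R] P.complex.X 0 := (P.complex.d 1 0).hom
  have hdd : Function.Exact d₂ d₁ := fun x => ⟨fun hx => by
    have h1 := P.complex_exactAt_succ 0
    rw [HomologicalComplex.exactAt_iff' _ 2 1 0 (by simp) (by simp),
      ShortComplex.moduleCat_exact_iff] at h1
    exact h1 x hx, by
    rintro ⟨y, rfl⟩
    exact congrArg (fun f => f.hom y) (P.complex.d_comp_d 2 1 0)⟩
  let q₀ : P.complex.X 0 →ₗ[R] (N : Type u) := (P.π.f 0).hom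
  have hq₀ : Function.Surjective q₀ :=
    (ModuleCat.epi_iff_surjective (P.π.f 0)).1 inferInstance
  have hex₀ : Function.Exact d₁ q₀ := fun x => by
    have h0 := P.exact₀
    rw [ShortComplex.moduleCat_exact_iff] at h0
    refine ⟨fun hx => h0 x hx, ?_⟩
    rintro ⟨y, rfl⟩
    exact congrArg (fun f => f.hom y) P.complex_d_comp_π_f_zero
  let W := LinearMap.ker q₀
  let e₁ : P.complex.X 1 →ₗ[R] W := d₁.codRestrict _ fun x => hex₀.apply_apply_eq_zero x
  have he₁ : Function.Surjective e₁ := fun w => by
    obtain ⟨y, hy⟩ := (hex₀ w).1 w.2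
    exact ⟨y, Subtype.ext hy⟩
  have hee : Function.Exact d₂ e₁ := fun x => by
    rw [← hdd x]
    exact ⟨fun hx => congrArg Subtype.val hx, fun hx => Subtype.ext hx⟩
  change ∀ x : (M : Type u) ⊗[R] P.complex.X 1, d₁.lTensor M x = 0 →
    ∃ y : (M : Type u) ⊗[R] P.complex.X 2, d₂.lTensor M y = x
  intro x hx
  refine (lTensor_exact (M : Type u) hee he₁ x).1 ?_
  refine h W (P.complex.X 0) W.subtype q₀ W.injective_subtype (LinearMap.exact_subtype_ker_map q₀) hq₀ ?_
  rw [map_zero, ← LinearMap.lTensor_comp_apply]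
  exact hx

variable {M : Type u} [AddCommGroup M] [Module R M] {a : ℕ}
  (A B : (Fin a → R) →ₗ[R] (Fin a → R)) (p : (Fin a → R) →ₗ[R] M) (c : R)

theorem subsingleton_ext_two (hp : Function.Surjective p) (hAp : Function.Exact A p)
    (hBA : ∀ v, B (A v) = c • v) {N : Type u} [AddCommGroup N] [Module R N] (hc : IsSMulRegular N c) :
    Subsingleton (Ext (ModuleCat.of R M) (ModuleCat.of R N) 2) := by
  have S₁ := LinearMap.shortExact_shortComplexKer (f := p) hp
  have S₂ := LinearMap.shortExact_shortComplexKer (f := A.rangeRestrict) A.surjective_rangeRestrict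
  haveI h₁ : Projective (p.shortComplexKer).X₂ := (IsProjective.iff_projective (R := R) (Fin a → R)).1 inferInstance
  haveI h₂ : Projective ((A.rangeRestrict).shortComplexKer).X₂ :=
    (IsProjective.iff_projective (R := R) (Fin a → R)).1 inferInstance
  have h0 : Subsingleton (Ext ((A.rangeRestrict).shortComplexKer).X₁ (ModuleCat.of R N) 0) := by
    refine @Equiv.subsingleton _ _ Ext.homEquiv₀ (subsingleton_of_forall_eq 0 fun f => ?_)
    apply ModuleCat.hom_ext
    refine LinearMap.ext fun (v : ↥(LinearMap.ker A.rangeRestrict)) => ?_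
    refine hc.right_eq_zero_of_smul ?_
    show c • f.hom v = 0
    rw [← map_smul]
    have hv : A (v : Fin a → R) = 0 := congrArg Subtype.val v.2
    have : c • v = 0 := Subtype.ext (by rw [Submodule.coe_smul, ← hBA, hv, map_zero, Submodule.coe_zero])
    exact (congrArg f.hom this).trans (map_zero _)
  have h1 := subsingleton_ext_succ S₂ (ModuleCat.of R N) 0 h0
  have hr : LinearMap.range A = LinearMap.ker p := (LinearMap.exact_iff.1 hAp).symm
  refine subsingleton_ext_succ S₁ (ModuleCat.of R N) 1 ?_
  change Subsingleton (Ext (ModuleCat.of R ↥(LinearMap.ker p)) (ModuleCat.of R N) 1)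
  change Subsingleton (Ext (ModuleCat.of R ↥(LinearMap.range A)) (ModuleCat.of R N) 1) at h1
  rwa [hr] at h1

theorem isZero_tor_one (hp : Function.Surjective p) (hAp : Function.Exact A p)
    (hBA : ∀ v, B (A v) = c • v) {D : Type u} [AddCommGroup D] [Module R D] (hc : IsSMulRegular D c) :
    Limits.IsZero (((Tor (ModuleCat.{u} R) 1).obj (ModuleCat.of R M)).obj (ModuleCat.of R D)) := by
  refine isZero_tor_one_of_injective _ _ fun W P _ _ _ _ ι q hι hex hq => ?_
  rw [injective_iff_map_eq_zero]
  intro w hw
  have := GrothLib.TorBal.lTensor_eq_zero_aux (LinearMap.id : D →ₗ[R] D) ι ι q q hex hι hex hq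
    LinearMap.id LinearMap.id rfl rfl (LinearMap.range A).subtype p hp
    (fun x => by rw [Submodule.coe_subtype, Subtype.range_coe]; exact hAp x) (fun m hm => ?_) w hw
  · simpa using this
  · obtain ⟨t, rfl⟩ := LinearMap.lTensor_surjective D A.surjective_rangeRestrict m
    rw [← LinearMap.lTensor_comp_apply, show (LinearMap.range A).subtype ∘ₗ A.rangeRestrict = A from rfl] at hm
    have h2 : c • t = 0 := by
      have := congrArg (B.lTensor D) hm
      rw [← LinearMap.lTensor_comp_apply, map_zero,
        show B ∘ₗ A = c • LinearMap.id from LinearMap.ext hBA, LinearMap.lTensor_smul] at this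
      simpa using this
    let e := TensorProduct.piScalarRight R R D (Fin a)
    have h3 : t = 0 := e.injective (funext fun i => by
      rw [map_zero, Pi.zero_apply]
      refine hc.right_eq_zero_of_smul ?_
      rw [← Pi.smul_apply, ← map_smul, h2, map_zero, Pi.zero_apply])
    simp [h3]

end GrothLib.PlanarExt
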