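import Groth.Agent.Lib.PlanarExt.Basic
import Groth.Agent.Lib.RegUFD.Basic
import Groth.Agent.Lib.Faltings.ProjKiller
import Mathlib.RingTheory.Ideal.AssociatedPrime.Basic

/-!
# Modules on a planar curve singularity with supports meeting only at the closed point
-/

set_option autoImplicit false
set_option linter.style.haveILetI false
universe u

open IsLocalRing Matrix CategoryTheory

namespace GrothLib.PlanarExt

variable {S : Type u} [CommRing S]

theorem dvd_of_dvd_mul [IsDomain S] {f₁ : S} : ∀ {s : Multiset S}, (∀ q ∈ s, Prime q ∧ ¬ q ∣ f₁) →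
    ∀ {b : S}, s.prod ∣ f₁ * b → s.prod ∣ b := by
  intro s
  induction s using Multiset.induction with
  | empty => intro _ b _; simp
  | cons q s ih =>
    intro hs b hb
    rw [Multiset.prod_cons] at hb ⊢
    obtain ⟨hq, hqf⟩ := hs q (Multiset.mem_cons_self q s)
    obtain ⟨c, rfl⟩ := (hq.dvd_or_dvd ((dvd_mul_right q s.prod).trans hb)).resolve_left hqf
    rw [mul_left_comm] at hb
    exact mul_dvd_mul_left q (ih (fun r hr => hs r (Multiset.mem_cons_of_mem hr))
      ((mul_dvd_mul_iff_left hq.ne_zero).1 hb))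

section

variable [IsDomain S] [IsLocalRing S] [IsNoetherianRing S]

omit [IsNoetherianRing S] in
theorem eq_span_of_mem (hS : ringKrullDim S = 2) {q : S} (hq : Prime q) (P : Ideal S) [P.IsPrime]
    (hqP : q ∈ P) (hP : P ≠ maximalIdeal S) : P = Ideal.span {q} := by
  by_contra hne
  haveI : (Ideal.span {q}).IsPrime := (Ideal.span_singleton_prime hq.ne_zero).2 hq
  have h1 : Ideal.span {q} < P :=
    lt_of_le_of_ne ((Ideal.span_singleton_le_iff_mem P).2 hqP) (Ne.symm hne)
  have h2 : P < maximalIdeal S := lt_of_le_of_ne (le_maximalIdeal ‹P.IsPrime›.ne_top) hP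
  let c : LTSeries (PrimeSpectrum S) :=
    (((RelSeries.singleton _ ⟨⊥, Ideal.isPrime_bot⟩).snoc ⟨Ideal.span {q}, inferInstance⟩
      (show (⊥ : Ideal S) < Ideal.span {q} from bot_lt_iff_ne_bot.2
        (by simpa [Ideal.span_singleton_eq_bot] using hq.ne_zero))).snoc ⟨P, inferInstance⟩
      (by simp only [RelSeries.last_snoc, Set.mem_ofPred_eq]; exact h1)).snoc ⟨maximalIdeal S, inferInstance⟩ (by simp only [RelSeries.last_snoc, Set.mem_ofPred_eq]; exact h2)
  have hc : ((c.length : ℕ) : WithBot ℕ∞) ≤ ringKrullDim S := Order.LTSeries.length_le_krullDim c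
  rw [hS] at hc
  simp [c] at hc
  exact absurd hc (by decide)

end

variable [IsRegularLocalRing S] {R : Type u} [CommRing R] [IsLocalRing R]
  (π : S →+* R) {M : Type u} [AddCommGroup M] [Module R M] [Module.Finite R M]

theorem comp_eq_of_eq (hπ : Function.Surjective π) {p : Ideal R} [p.IsPrime] (hp : p ≠ maximalIdeal R) :
    p.comap π ≠ maximalIdeal S := fun h => hp <| by
  haveI : (Ideal.map π (maximalIdeal S)).IsPrime := by
    rw [← h, Ideal.map_comap_of_surjective π hπ]; infer_instance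
  have hm : (Ideal.map π (maximalIdeal S)).IsMaximal :=
    (Ideal.map_eq_top_or_isMaximal_of_surjective π hπ (maximalIdeal.isMaximal S)).resolve_left
      (Ideal.IsPrime.ne_top ‹_›)
  rw [← Ideal.map_comap_of_surjective π hπ p, h]
  exact eq_maximalIdeal hm

/-- A square presentation over the regular local ring. -/
theorem exists_presentation (hS : ringKrullDim S = 2) (hπ : Function.Surjective π) {x : R}
    (hx : x ∈ maximalIdeal R) (hxM : IsSMulRegular M x) {f₁ : S} (hf₁ : f₁ ≠ 0)
    (hkill : ∀ v : M, π f₁ • v = 0) :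
    ∃ (a : ℕ) (A B : (Fin a → R) →ₗ[R] (Fin a → R)) (p : (Fin a → R) →ₗ[R] M),
      Function.Surjective p ∧ Function.Exact A p ∧ ∀ v, B (A v) = π f₁ • v := by
  classical
  haveI := GrothLib.CMFree.isDomain_of_isRegularLocalRing S
  obtain ⟨a, p, hp⟩ := Module.Finite.exists_fin' R M
  rcases subsingleton_or_nontrivial M with hM | hM
  · refine ⟨0, 0, 0, 0, fun v => ⟨0, Subsingleton.elim _ _⟩,
      fun v => ⟨fun _ => ⟨0, Subsingleton.elim _ _⟩, fun _ => Subsingleton.elim _ _⟩,
      fun v => Subsingleton.elim _ _⟩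
  letI : Module S M := Module.compHom M π
  let m : Fin a → M := fun i => p (Pi.single i 1)
  have hpR : ∀ w : Fin a → R, p w = ∑ i, w i • m i := fun w => by
    conv_lhs => rw [pi_eq_sum_univ' w]
    simp [m]
  let pS : (Fin a → S) →ₗ[S] M := Fintype.linearCombination S m
  have hpS : ∀ v : Fin a → S, pS v = p (π ∘ v) := fun v => by
    rw [hpR, Fintype.linearCombination_apply]
    rfl
  have hpSsurj : Function.Surjective pS := fun y => by
    obtain ⟨w, rfl⟩ := hp y
    choose v hv using fun i => hπ (w i)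
    exact ⟨v, by rw [hpS]; congr 1; funext i; exact hv i⟩
  haveI : Module.Finite S M := Module.Finite.of_surjective pS hpSsurj
  obtain ⟨s, rfl⟩ := hπ x
  have hs : s ∈ maximalIdeal S := fun h => hx (h.map π)
  have hne : maximalIdeal S • (⊤ : Submodule S M) ≠ ⊤ :=
    GrothLib.Depth.smul_top_ne_top (maximalIdeal.isMaximal S).ne_top
  have hsM : IsSMulRegular M s := hxM
  have hdepth : ((1 : ℕ) : ℕ∞) ≤ LocCoh.depth S M :=
    (GrothLib.Depth.le_idealDepth_iff_exists _ hne 1).2 ⟨[s], rfl,
      fun r hr => by rw [List.mem_singleton.1 hr]; exact hs,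
      (RingTheory.Sequence.isWeaklyRegular_cons_iff M s []).2 ⟨hsM, .nil S _⟩⟩
  obtain ⟨-, hpd⟩ := GrothLib.Faltings.pdLE_of_le_depth (d := 2) (by exact_mod_cast hS) M hdepth
  have hSC := LinearMap.shortExact_shortComplexKer (f := pS) hpSsurj
  have hproj : HasProjectiveDimensionLT (pS.shortComplexKer).X₁ 1 :=
    (hSC.hasProjectiveDimensionLT_X₃_iff 0
      ((IsProjective.iff_projective (R := S) (Fin a → S)).1 inferInstance)).1 hpd
  haveI : Module.Projective S ↥(LinearMap.ker pS) :=
    (IsProjective.iff_projective (R := S) ↥(LinearMap.ker pS)).2 (projective_iff_hasProjectiveDimensionLT_one.2 hproj)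
  haveI : Module.Free S ↥(LinearMap.ker pS) := Module.free_of_flat_of_isLocalRing
  let bs := Module.Free.chooseBasis S ↥(LinearMap.ker pS)
  let mulf : (Fin a → S) →ₗ[S] ↥(LinearMap.ker pS) :=
    (f₁ • (LinearMap.id : (Fin a → S) →ₗ[S] (Fin a → S))).codRestrict _ fun v => by
      show pS (f₁ • v) = 0
      rw [map_smul]; exact hkill _
  have hmulf : Function.Injective mulf := fun u v h => smul_right_injective _ hf₁ (congrArg Subtype.val h)
  have hrank : Fintype.card (Module.Free.ChooseBasisIndex S ↥(LinearMap.ker pS)) = a := by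
    have h1 := LinearMap.finrank_le_finrank_of_injective hmulf
    have h2 := Submodule.finrank_le (LinearMap.ker pS)
    simp only [Module.finrank_fin_fun] at h1 h2
    rw [Module.finrank_eq_card_chooseBasisIndex] at h1 h2
    omega
  let φ : (Fin a → S) →ₗ[S] (Fin a → S) := (LinearMap.ker pS).subtype ∘ₗ
    ((bs.equivFun.trans (LinearEquiv.funCongrLeft S S ((finCongr hrank).symm.trans
      (Fintype.equivFin _).symm))).symm).toLinearMap
  have hφinj : Function.Injective φ := (LinearMap.ker pS).injective_subtype.comp (LinearEquiv.injective _)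
  have hφrange : LinearMap.range φ = LinearMap.ker pS := by
    rw [LinearMap.range_comp, LinearEquiv.range, Submodule.map_top, Submodule.range_subtype]
  let ψ : (Fin a → S) →ₗ[S] (Fin a → S) :=
    (LinearEquiv.ofInjective φ hφinj).symm.toLinearMap ∘ₗ
      (f₁ • (LinearMap.id : (Fin a → S) →ₗ[S] (Fin a → S))).codRestrict (LinearMap.range φ) fun v => by
        rw [hφrange, LinearMap.mem_ker, LinearMap.smul_apply, map_smul]; exact hkill _
  have hψ : ∀ v, φ (ψ v) = f₁ • v := fun v =>
    congrArg Subtype.val ((LinearEquiv.ofInjective φ hφinj).apply_symm_apply _)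
  have hψφ : ∀ v, ψ (φ v) = f₁ • v := fun v => hφinj (by rw [hψ, map_smul])
  let A : (Fin a → R) →ₗ[R] (Fin a → R) := ((LinearMap.toMatrix' φ).map π).mulVecLin
  let B : (Fin a → R) →ₗ[R] (Fin a → R) := ((LinearMap.toMatrix' ψ).map π).mulVecLin
  have hA : ∀ v : Fin a → S, A (π ∘ v) = π ∘ φ v := fun v => funext fun i => by
    rw [Function.comp_apply, ← LinearMap.toMatrix'_mulVec φ v, RingHom.map_mulVec]
    rfl
  have hB : ∀ v : Fin a → S, B (π ∘ v) = π ∘ ψ v := fun v => funext fun i => by
    rw [Function.comp_apply, ← LinearMap.toMatrix'_mulVec ψ v, RingHom.map_mulVec]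
    rfl
  refine ⟨a, A, B, p, hp, fun w => ?_, fun w => ?_⟩
  · choose v hv using fun i => hπ (w i)
    obtain rfl : π ∘ v = w := funext hv
    constructor
    · intro h
      have hmem : v ∈ LinearMap.ker pS := LinearMap.mem_ker.2 ((hpS v).trans h)
      rw [← hφrange] at hmem
      obtain ⟨u, hu⟩ := hmem
      exact ⟨π ∘ u, by rw [hA, hu]⟩
    · rintro ⟨u', hu'⟩
      choose u hu using fun i => hπ (u' i)
      obtain rfl : π ∘ u = u' := funext hu
      rw [← hu', hA, ← hpS]
      exact LinearMap.mem_ker.1 (hφrange ▸ LinearMap.mem_range_self φ u)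
  · choose v hv using fun i => hπ (w i)
    obtain rfl : π ∘ v = w := funext hv
    rw [hA, hB, hψφ]
    funext i
    simp

/-- The splitting `f = f₁ g` of the equation by the support of `M`. -/
theorem exists_split (hS : ringKrullDim S = 2) {f : S} (hf : f ≠ 0) (hπ : Function.Surjective π)
    (hker : RingHom.ker π = Ideal.span {f}) (I J : Ideal R) {n : ℕ}
    (hIJ : maximalIdeal R ^ n ≤ I ⊔ J) {N : Type u} [AddCommGroup N] [Module R N] [Module.Finite R N]
    (hI : I ≤ Module.annihilator R M) (hJ : J ≤ Module.annihilator R N) {x : R} (hx : x ∈ maximalIdeal R)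
    (hxM : IsSMulRegular M x) {y : R} (hy : y ∈ maximalIdeal R) (hyN : IsSMulRegular N y) :
    ∃ f₁ : S, f₁ ≠ 0 ∧ (∀ v : M, π f₁ • v = 0) ∧ IsSMulRegular N (π f₁) ∧
      IsSMulRegular (Module.Dual R N) (π f₁) := by
  classical
  haveI := GrothLib.CMFree.isDomain_of_isRegularLocalRing S
  haveI := GrothLib.RegUFD.ufd_of_isRegularLocalRing S
  haveI : IsNoetherianRing R := isNoetherianRing_of_surjective S R π hπ
  have reg_iff : ∀ (Q : Type u) [AddCommGroup Q] [Module R Q] (z : R),
      ¬ IsSMulRegular Q z ↔ ∃ p ∈ associatedPrimes R Q, z ∈ p := fun Q _ _ z => by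
    have h := biUnion_associatedPrimes_eq_compl_regular (R := R) (M := Q)
    exact ⟨fun hz => by
      have : z ∈ (⋃ p ∈ associatedPrimes R Q, (p : Set R)) := h ▸ hz
      simpa using this, fun ⟨p, hp, hzp⟩ => by
      have : z ∈ ({z : R | IsSMulRegular Q z}ᶜ : Set R) := h ▸ Set.mem_biUnion hp hzp
      exact this⟩
  have mul_reg : ∀ (Q : Type u) [AddCommGroup Q] [Module R Q] (s : Multiset S),
      (∀ q ∈ s, IsSMulRegular Q (π q)) → IsSMulRegular Q (π s.prod) := by
    intro Q _ _ s hs
    induction s using Multiset.induction with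
    | empty => simpa using IsSMulRegular.one Q
    | cons q s ih =>
      rw [Multiset.prod_cons, map_mul]
      exact (hs q (Multiset.mem_cons_self q s)).mul (ih fun r hr => hs r (Multiset.mem_cons_of_mem hr))
  let P : S → Prop := fun q => ∃ p ∈ associatedPrimes R M, π q ∈ p
  let F := UniqueFactorizationMonoid.factors f
  have hprime : ∀ q ∈ F, Prime q := UniqueFactorizationMonoid.prime_of_factor
  obtain ⟨w, hw⟩ := UniqueFactorizationMonoid.factors_prod hf
  let f₁ := (F.filter P).prod
  let g := (F.filter fun q => ¬ P q).prod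
  have hfact : f₁ * g * (w : S) = f := by
    rw [← Multiset.prod_add, Multiset.filter_add_not]; exact hw
  have hgM : IsSMulRegular M (π g) := mul_reg M _ fun q hq => by
    by_contra h
    exact (Multiset.mem_filter.1 hq).2 ((reg_iff M _).1 h)
  have hf₁M : ∀ v : M, π f₁ • v = 0 := fun v => by
    refine hgM.right_eq_zero_of_smul ?_
    have hπf : π f = 0 := RingHom.mem_ker.1 (hker ▸ Ideal.mem_span_singleton_self f)
    rw [← hfact, map_mul, map_mul] at hπf
    have h0 : π g * π f₁ = 0 := by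
      have := congrArg (· * π ((w⁻¹ : Sˣ) : S)) hπf
      simp only [zero_mul, mul_assoc, ← map_mul, Units.mul_inv, map_one, mul_one] at this
      rw [mul_comm]; simpa using this
    rw [smul_smul, h0, zero_smul]
  have hnotmax : ∀ (Q : Type u) [AddCommGroup Q] [Module R Q] (z : R), z ∈ maximalIdeal R →
      IsSMulRegular Q z → ∀ p ∈ associatedPrimes R Q, p ≠ maximalIdeal R := fun Q _ _ z hz hzQ p hp e =>
    (reg_iff Q z).2 ⟨p, hp, e ▸ hz⟩ hzQ
  have hf₁N : IsSMulRegular N (π f₁) := mul_reg N _ fun q hq => by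
    by_contra h
    obtain ⟨hqF, p, hp, hqp⟩ := Multiset.mem_filter.1 hq
    obtain ⟨p', hp', hqp'⟩ := (reg_iff N _).1 h
    haveI := hp.isPrime
    haveI := hp'.isPrime
    have hpm := hnotmax M x hx hxM p hp
    have hpm' := hnotmax N y hy hyN p' hp'
    have e1 := eq_span_of_mem hS (hprime q hqF) (p.comap π) hqp (comp_eq_of_eq π hπ hpm)
    have e2 := eq_span_of_mem hS (hprime q hqF) (p'.comap π) hqp' (comp_eq_of_eq π hπ hpm')
    have e : p = p' := Ideal.comap_injective_of_surjective π hπ (e1.trans e2.symm)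
    have hle : maximalIdeal R ^ n ≤ p := hIJ.trans (sup_le
      (hI.trans (le_trans (by rw [Submodule.annihilator_top]) (IsAssociatedPrime.annihilator_le hp)))
      (e ▸ hJ.trans (le_trans (by rw [Submodule.annihilator_top]) (IsAssociatedPrime.annihilator_le hp'))))
    exact hpm (le_antisymm (le_maximalIdeal hp.isPrime.ne_top) (Ideal.IsPrime.le_of_pow_le hle))
  refine ⟨f₁, fun h => hf (by rw [← hfact, h, zero_mul, zero_mul]), hf₁M, hf₁N, ?_⟩
  have hgN : ∀ v : N, π g • v = 0 := fun v => by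
    refine hf₁N.right_eq_zero_of_smul ?_
    have hπf : π (f₁ * g) = 0 := RingHom.mem_ker.1 (hker ▸ Ideal.mem_span_singleton.2
      ⟨((w⁻¹ : Sˣ) : S), by rw [← hfact, mul_assoc, Units.mul_inv, mul_one]⟩)
    rw [smul_smul, ← map_mul, hπf, zero_smul]
  refine (isSMulRegular_iff_right_eq_zero_of_smul (M := Module.Dual R N) (r := π f₁)).2 fun φ hφ => LinearMap.ext fun v => ?_
  obtain ⟨b, hb⟩ := hπ (φ v)
  have h1 : f ∣ f₁ * b := Ideal.mem_span_singleton.1 (hker ▸ RingHom.mem_ker.2 (by
    rw [map_mul, hb]; exact LinearMap.congr_fun hφ v))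
  have h2 : f ∣ g * b := Ideal.mem_span_singleton.1 (hker ▸ RingHom.mem_ker.2 (by
    rw [map_mul, hb, ← smul_eq_mul, ← map_smul, hgN, map_zero]))
  have hf₁b : f₁ ∣ b := by
    have : g * f₁ ∣ g * b := (Dvd.intro (w : S) (by rw [← hfact]; ring)).trans h2
    exact (mul_dvd_mul_iff_left (fun h => hf (by rw [← hfact, h, mul_zero, zero_mul]))).1 this
  obtain ⟨b', rfl⟩ := hf₁b
  have hgb : g ∣ f₁ * b' :=
    (mul_dvd_mul_iff_left (fun h => hf (by rw [← hfact, h, zero_mul, zero_mul]) : f₁ ≠ 0)).1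
      ((Dvd.intro (w : S) (by rw [← hfact])).trans h1)
  have hgb' : g ∣ b' := dvd_of_dvd_mul (fun q hq => ⟨hprime q (Multiset.mem_filter.1 hq).1, fun hdvd => by
    obtain ⟨q₁, hq₁, hqq₁⟩ := (hprime q (Multiset.mem_filter.1 hq).1).exists_mem_multiset_dvd hdvd
    obtain ⟨hq₁F, hP⟩ := Multiset.mem_filter.1 hq₁
    obtain ⟨p, hp, hqp⟩ := hP
    refine (Multiset.mem_filter.1 hq).2 ⟨p, hp, ?_⟩
    obtain ⟨u, hu⟩ := ((hprime q (Multiset.mem_filter.1 hq).1).irreducible.associated_of_dvd
      (hprime q₁ hq₁F).irreducible hqq₁).symm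
    rw [← hu, map_mul]
    exact Ideal.mul_mem_right _ _ hqp⟩) hgb
  show φ v = 0
  rw [← hb, ← RingHom.mem_ker, hker, Ideal.mem_span_singleton]
  refine dvd_trans ?_ (mul_dvd_mul_left f₁ hgb')
  exact ⟨((w⁻¹ : Sˣ) : S), by rw [← hfact, mul_assoc, Units.mul_inv, mul_one]⟩

end GrothLib.PlanarExt
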